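import Groth.Agent.SHDescLib.Tools
import Groth.Agent.ASWeakLib.Core
import Mathlib.FieldTheory.IntermediateField.Adjoin.Algebra

/-! Lemmas on restricted valuations and generated fields. -/

set_option autoImplicit false
universe u

noncomputable section

namespace SHDescLib

variable {K Ω Ω' : Type u} [Field K] [Field Ω] [Field Ω'] (W : ValuationSubring Ω') (g : Ω →+* Ω')

theorem valuation_comap_le_one_iff (z : Ω) : (W.comap g).valuation z ≤ 1 ↔ W.valuation (g z) ≤ 1 := by
  rw [ValuationSubring.valuation_le_one_iff, ValuationSubring.valuation_le_one_iff]; rfl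

theorem valuation_comap_lt_one_iff (z : Ω) : (W.comap g).valuation z < 1 ↔ W.valuation (g z) < 1 := by
  by_cases hz : z = 0
  · simp [hz]
  have h : ∀ {F : Type u} [Field F] (V : ValuationSubring F) (w : F), w ≠ 0 →
      (V.valuation w < 1 ↔ ¬ V.valuation w⁻¹ ≤ 1) := fun V w hw => by
    rw [map_inv₀, inv_le_one₀ (zero_lt_iff.2 ((_root_.map_ne_zero _).2 hw)), not_le]
  rw [h _ _ hz, h _ _ ((_root_.map_ne_zero g).2 hz), valuation_comap_le_one_iff, map_inv₀ g]

/-- Bounds pass along weakly unramified extensions of restricted valuations. -/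
theorem le_of_wu (f : K →+* Ω)
    (h : letI : Algebra ((W.comap g).comap f) (W.comap g) := (EtRam.inclOfComap (W.comap g) f).toAlgebra
      EtRam.IsWeaklyUnramified ((W.comap g).comap f) (W.comap g))
    {q : W.ValueGroup} (hq : ∀ z : K, W.valuation (g (f z)) < 1 → W.valuation (g (f z)) ≤ q) {z : Ω}
    (hz : W.valuation (g z) < 1) : W.valuation (g z) ≤ q := by
  let J : Ideal (W.comap g) :=
    { carrier := {w | W.valuation (g (w : Ω)) ≤ q}
      zero_mem' := by simp
      add_mem' := fun {a b} ha hb => by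
        show W.valuation (g ((a : Ω) + (b : Ω))) ≤ q
        rw [map_add]; exact W.valuation.map_add_le ha hb
      smul_mem' := fun c w hw => by
        show W.valuation (g ((c : Ω) * (w : Ω))) ≤ q
        rw [map_mul, map_mul]
        exact (mul_le_of_le_one_left zero_le ((W.valuation_le_one_iff _).2 c.2)).trans hw }
  have hle : (IsLocalRing.maximalIdeal ((W.comap g).comap f)).map (EtRam.inclOfComap (W.comap g) f) ≤ J :=
    Ideal.map_le_iff_le_comap.2 fun a ha => hq (a : K) ((valuation_comap_lt_one_iff W g _).1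
      (((W.comap g).valuation_lt_one_iff (EtRam.inclOfComap (W.comap g) f a)).1 fun hu =>
        ha (isUnit_of_map_unit (EtRam.inclOfComap (W.comap g) f) a hu)))
  exact hle (h ▸ ((W.comap g).valuation_lt_one_iff ⟨z, (W.valuation_le_one_iff _).1 hz.le⟩).2
    ((valuation_comap_lt_one_iff W g z).2 hz) : (⟨z, (W.valuation_le_one_iff _).1 hz.le⟩ : W.comap g) ∈ _)

theorem adjoin_top {k : Type u} [Field k] [Algebra k Ω] (F : IntermediateField k Ω) (s : Set F) (hs : ∀ x ∈ s, IsAlgebraic k x)
    (hF : F ≤ IntermediateField.adjoin k (Subtype.val '' s)) : Algebra.adjoin k s = ⊤ := by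
  refine eq_top_iff.2 fun z _ => ?_
  have h1 : (z : Ω) ∈ Algebra.adjoin k (Subtype.val '' s) := by
    rw [← IntermediateField.adjoin_toSubalgebra_of_isAlgebraic (by
      rintro _ ⟨x, hx, rfl⟩
      exact (hs x hx).algHom F.val)]
    exact hF z.2
  have h2 : Algebra.adjoin k (Subtype.val '' s) = (Algebra.adjoin k s).map F.val :=
    (F.val.map_adjoin s).symm
  rw [h2] at h1
  obtain ⟨y, hy, hyz⟩ := h1
  rw [← (Subtype.val_injective hyz : y = z)]
  exact hy

/-- An extension of the valuation ring to the algebraic closure. -/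
theorem exists_extension (W : ValuationSubring Ω) (i : Ω →+* Ω') : ∃ W' : ValuationSubring Ω', W'.comap i = W := by
  obtain ⟨W', hW'⟩ := ASWeakLib.exists_dominating (i.comp W.subtype) (i.injective.comp Subtype.val_injective)
  refine ⟨W', SetLike.ext fun z => ⟨fun hz => ?_, fun hz => hW'.1 ⟨z, hz⟩⟩⟩
  by_contra hn
  have hinv := (W.mem_or_inv_mem z).resolve_left hn
  have hm : (⟨z⁻¹, hinv⟩ : W) ∈ IsLocalRing.maximalIdeal W := fun hu => by
    obtain ⟨b, hb⟩ := hu.exists_right_inv
    have : z⁻¹ * (b : Ω) = 1 := congrArg Subtype.val hb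
    refine hn ?_
    rw [← inv_inv z, ← eq_inv_of_mul_eq_one_right this]
    exact b.2
  have h1 := hW'.2 _ hm
  have h2 : W'.valuation (i z) ≤ 1 := (W'.valuation_le_one_iff _).2 hz
  simp only [RingHom.comp_apply, ValuationSubring.subtype_apply, map_inv₀] at h1
  by_cases hz0 : z = 0
  · exact hn (hz0 ▸ W.zero_mem)
  exact not_le.2 h1 ((one_le_inv₀ (zero_lt_iff.2 ((_root_.map_ne_zero _).2 ((_root_.map_ne_zero i).2 hz0)))).2 h2)

end SHDescLib
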