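import Groth.Agent.SolSepLib.Val
import Mathlib.RingTheory.Invariant.Profinite
import Mathlib.FieldTheory.Galois.Infinite
import Mathlib.FieldTheory.Galois.Profinite
import Mathlib.RingTheory.IntegralClosure.IntegrallyClosed

/-! Valuations over a discrete valuation ring are conjugate in Galois extensions. -/

set_option autoImplicit false
universe u

noncomputable section

namespace SHDescLib

open Polynomial IsLocalRing
open scoped Pointwise

variable {B L Ω : Type u} [CommRing B] [IsDomain B] [IsDiscreteValuationRing B] [Field L] [Algebra B L] [IsFractionRing B L]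
  [Field Ω] [Algebra L Ω] [Algebra B Ω] [IsScalarTower B L Ω]

theorem exists_unit_coeff {z : Ω} (hz : IsAlgebraic L z) :
    ∃ P : B[X], aeval z P = 0 ∧ ∃ i, IsUnit (P.coeff i) := by
  classical
  obtain ⟨π, hπ⟩ := IsDiscreteValuationRing.exists_irreducible B
  obtain ⟨P, hP0, hPz⟩ := (IsFractionRing.isAlgebraic_iff B L Ω).2 hz
  obtain ⟨i, hi⟩ : ∃ i, P.coeff i ≠ 0 := by
    by_contra h
    push Not at h
    exact hP0 (Polynomial.ext fun i => by rw [h i, coeff_zero])
  have hex : ∃ n, ¬ C (π ^ n) ∣ P := by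
    obtain ⟨n, hn⟩ := FiniteMultiplicity.of_prime_left hπ.prime hi
    exact ⟨n + 1, fun h => hn ((C_dvd_iff_dvd_coeff _ _).1 h i)⟩
  obtain ⟨n, hn⟩ : ∃ n, Nat.find hex = n + 1 := Nat.exists_eq_succ_of_ne_zero fun h0 => by
    have := Nat.find_spec hex
    rw [h0] at this
    exact this (by simp)
  obtain ⟨Q, hQ⟩ := not_not.1 (Nat.find_min hex (show n < Nat.find hex by omega))
  refine ⟨Q, ?_, ?_⟩
  · rw [hQ, map_mul, aeval_C, mul_eq_zero] at hPz
    refine hPz.resolve_left ?_
    rw [IsScalarTower.algebraMap_apply B L Ω]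
    exact (_root_.map_ne_zero _).2 ((map_ne_zero_iff _ (IsFractionRing.injective B L)).2 (pow_ne_zero _ hπ.ne_zero))
  · by_contra hall
    push Not at hall
    refine Nat.find_spec hex ?_
    rw [hn, pow_succ, C_mul, hQ]
    refine mul_dvd_mul_left _ ((C_dvd_iff_dvd_coeff _ _).2 fun j => ?_)
    rw [← Ideal.mem_span_singleton, ← hπ.maximalIdeal_eq]
    exact hall j

variable (W : ValuationSubring Ω) (hW : EtRam.Dominates B (algebraMap B Ω) W)
include hW

omit [IsFractionRing B L] in
theorem valuation_le_one_of_isIntegral {z : Ω} (hz : IsIntegral B z) : W.valuation z ≤ 1 := by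
  obtain ⟨q, hq, hqz⟩ := hz
  have : IsIntegral W z := by
    refine ⟨q.map ((algebraMap B Ω).codRestrict W.toSubring hW.1), hq.map _, ?_⟩
    rw [eval₂_map]; exact hqz
  obtain ⟨w, hw⟩ := IsIntegrallyClosed.isIntegral_iff.1 this
  exact (W.valuation_le_one_iff _).2 (hw ▸ w.2)

/-- The valuation ring is the localisation of the integral closure at its centre. -/
theorem exists_denominator {z : Ω} (hz : IsAlgebraic L z) (hzW : z ∈ W) :
    ∃ s : Ω, IsIntegral B s ∧ W.valuation s = 1 ∧ IsIntegral B (s * z) := by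
  classical
  obtain ⟨P, hP, i₀, hi₀⟩ := exists_unit_coeff (B := B) hz
  let N := P.natDegree + 1
  let a : ℕ → Ω := fun i => algebraMap B Ω (P.coeff i)
  let b : ℕ → Ω := fun j => ∑ i ∈ Finset.range (N - j), a (j + i) * z ^ i
  have hrec : ∀ j, j < N → b j = a j + z * b (j + 1) := fun j hj => by
    simp only [b]
    rw [show N - j = N - (j + 1) + 1 by omega, Finset.sum_range_succ', Finset.mul_sum, pow_zero, mul_one, add_zero, add_comm]
    refine congrArg _ (Finset.sum_congr rfl fun i _ => ?_)
    rw [show j + (i + 1) = j + 1 + i by omega, pow_succ]; ring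
  have hb0 : b 0 = 0 := by
    simp only [b, Nat.sub_zero, zero_add, a, N]
    rw [aeval_eq_sum_range] at hP
    rw [← hP]
    exact Finset.sum_congr rfl fun i _ => (Algebra.smul_def _ _).symm
  have hsplit : ∀ j, j ≤ N → ∑ i ∈ Finset.range j, a i * z ^ i + z ^ j * b j = 0 := by
    intro j hj
    induction j with
    | zero => simp [hb0]
    | succ j ih =>
      rw [Finset.sum_range_succ, ← ih (by omega), hrec j (by omega), pow_succ]; ring
  have hint : ∀ d j, N - j = d → j ≤ N → IsIntegral B (b j) ∧ (0 < j → IsIntegral B (z * b j)) := by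
    intro d
    induction d with
    | zero =>
      intro j hd hj
      have : b j = 0 := by simp only [b, hd, Finset.range_zero, Finset.sum_empty]
      rw [this, mul_zero]; exact ⟨isIntegral_zero, fun _ => isIntegral_zero⟩
    | succ d ih =>
      intro j hd hj
      obtain ⟨hb1, hzb⟩ := ih (j + 1) (by omega) (by omega)
      have hbj : IsIntegral B (b j) := hrec j (by omega) ▸ (isIntegral_algebraMap).add (hzb (Nat.succ_pos j))
      refine ⟨hbj, fun hjpos => ?_⟩
      let D := integralClosure B Ω
      let β : D := ⟨b j, hbj⟩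
      let Q : D[X] := monomial j β + ∑ i ∈ Finset.range j, monomial i (algebraMap B D (P.coeff i))
      have hQ : aeval z Q = 0 := by
        simp only [Q, map_add, map_sum, aeval_monomial]
        rw [← hsplit j hj, add_comm, mul_comm (z ^ j)]
        rfl
      have h1 : IsIntegral D (z * b j) := by
        by_cases hb : b j = 0
        · rw [hb, mul_zero]; exact isIntegral_zero
        have hlc : Q.leadingCoeff = β := by
          have hdeg : (∑ i ∈ Finset.range j, monomial i (algebraMap B D (P.coeff i))).degree < (monomial j β).degree := by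
            rw [degree_monomial _ (fun h => hb (congrArg Subtype.val h))]
            refine lt_of_le_of_lt (degree_sum_le _ _) ((Finset.sup_lt_iff (WithBot.bot_lt_coe j)).2 fun i hi => ?_)
            exact lt_of_le_of_lt (degree_monomial_le _ _) (WithBot.coe_lt_coe.2 (Finset.mem_range.1 hi))
          simp only [Q]
          rw [leadingCoeff_add_of_degree_lt' hdeg, leadingCoeff_monomial]
        have := isIntegral_leadingCoeff_smul Q z hQ
        rw [hlc, Algebra.smul_def, mul_comm] at this
        exact this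
      have : Algebra.IsIntegral B D := inferInstance
      exact isIntegral_trans _ h1
  -- the smallest index of a unit
  have hex : ∃ k, k < N ∧ IsUnit (P.coeff k) := ⟨i₀, Nat.lt_succ_of_le (le_natDegree_of_ne_zero hi₀.ne_zero), hi₀⟩
  let k := Nat.findGreatest (fun k => k < N ∧ IsUnit (P.coeff k)) N
  obtain ⟨k', hk'⟩ := hex
  have hk : k < N ∧ IsUnit (P.coeff k) := Nat.findGreatest_spec (P := fun k => k < N ∧ IsUnit (P.coeff k)) hk'.1.le hk'
  have hzv : W.valuation z ≤ 1 := (W.valuation_le_one_iff _).2 hzW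
  have hhigh : W.valuation (b (k + 1)) < 1 := by
    refine Valuation.map_sum_lt _ one_ne_zero fun i hi => ?_
    rw [Finset.mem_range] at hi
    rw [map_mul, map_pow]
    refine mul_lt_one_of_nonneg_of_lt_one_left zero_le (hW.2 _ fun hu => ?_) (pow_le_one₀ zero_le hzv)
    have := Nat.le_findGreatest (P := fun k => k < N ∧ IsUnit (P.coeff k)) (show k + 1 + i ≤ N by omega) ⟨by omega, hu⟩
    show False
    simp only [k] at *
    omega
  have hbk : W.valuation (b k) = 1 := by
    rw [hrec k hk.1, Valuation.map_add_eq_of_lt_left]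
    · exact EtRamStepLib.valuation_eq_one_of_isUnit W hW hk.2
    · rw [EtRamStepLib.valuation_eq_one_of_isUnit W hW hk.2, map_mul]
      exact mul_lt_one_of_nonneg_of_lt_one_right hzv zero_le hhigh
  have hkpos : 0 < k := Nat.pos_of_ne_zero fun h0 => by
    rw [h0, hb0, map_zero] at hbk
    exact zero_ne_one hbk
  exact ⟨b k, (hint _ k rfl hk.1.le).1, hbk, mul_comm z (b k) ▸ (hint _ k rfl hk.1.le).2 hkpos⟩

omit hW in
/-- Dominating valuation rings are conjugate. -/
theorem exists_conj [IsGalois L Ω] {W₁ W₂ : ValuationSubring Ω} (h₁ : EtRam.Dominates B (algebraMap B Ω) W₁)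
    (h₂ : EtRam.Dominates B (algebraMap B Ω) W₂) : ∃ σ : Ω ≃ₐ[L] Ω, W₂.comap σ.toAlgHom.toRingHom = W₁ := by
  classical
  let D := integralClosure B Ω
  let G := Gal(Ω/L)
  have hmem : ∀ (σ : G) (d : D), σ (d : Ω) ∈ D := fun σ d => d.2.map (σ.toAlgHom.restrictScalars B)
  let _ : MulSemiringAction G D :=
    { smul := fun σ d => ⟨σ (d : Ω), hmem σ d⟩
      one_smul := fun d => Subtype.ext rfl
      mul_smul := fun σ τ d => Subtype.ext rfl
      smul_zero := fun σ => Subtype.ext (map_zero σ)
      smul_add := fun σ a b => Subtype.ext (map_add σ (a : Ω) b)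
      smul_one := fun σ => Subtype.ext (map_one σ)
      smul_mul := fun σ a b => Subtype.ext (map_mul σ (a : Ω) b) }
  have hsmul : ∀ (σ : G) (d : D), ((σ • d : D) : Ω) = σ (d : Ω) := fun _ _ => rfl
  have : SMulCommClass G B D := ⟨fun σ b d => Subtype.ext (by
    show σ (b • (d : Ω)) = b • σ (d : Ω)
    exact map_smul (σ.toAlgHom.restrictScalars B) b (d : Ω))⟩
  have : Algebra.IsInvariant B D G := ⟨fun d hd => by
    obtain ⟨l, hl⟩ : (d : Ω) ∈ (⊥ : IntermediateField L Ω) :=
      (InfiniteGalois.mem_bot_iff_fixed (d : Ω)).2 fun σ => congrArg Subtype.val (hd σ)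
    have hint : IsIntegral B l := by
      refine (isIntegral_algHom_iff (IsScalarTower.toAlgHom B L Ω) (algebraMap L Ω).injective).1 ?_
      exact hl.symm ▸ d.2
    obtain ⟨b, hb⟩ := IsIntegrallyClosed.isIntegral_iff.1 hint
    refine ⟨b, Subtype.ext ?_⟩
    show algebraMap B Ω b = (d : Ω)
    rw [IsScalarTower.algebraMap_apply B L Ω, hb]; exact hl⟩
  let _ : TopologicalSpace D := ⊥
  have : DiscreteTopology D := ⟨rfl⟩
  have : ContinuousSMul G D := continuousSMul_iff_stabilizer_isOpen.2 fun d => by
    have h : (MulAction.stabilizer G d : Set G) = (MulAction.stabilizer G (d : Ω) : Set G) := by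
      ext σ
      exact ⟨fun h => congrArg Subtype.val h, fun h => Subtype.ext h⟩
    rw [h]
    exact stabilizer_isOpen_of_isIntegral (K := L) (d : Ω)
  -- the centres
  let centre : ∀ V : ValuationSubring Ω, EtRam.Dominates B (algebraMap B Ω) V → Ideal D := fun V hV =>
    (maximalIdeal V).comap ((integralClosure B Ω).val.toRingHom.codRestrict V.toSubring fun d =>
      (V.valuation_le_one_iff _).1 (valuation_le_one_of_isIntegral V hV d.2))
  have hcentre : ∀ V hV (d : D), d ∈ centre V hV ↔ V.valuation (d : Ω) < 1 := fun V hV d => by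
    rw [Ideal.mem_comap]
    exact (V.valuation_lt_one_iff _)
  have hunder : ∀ (V : ValuationSubring Ω) (hV : EtRam.Dominates B (algebraMap B Ω) V), (centre V hV).under B = maximalIdeal B := fun V hV => by
    refine Ideal.ext fun b => ?_
    rw [Ideal.under_def, Ideal.mem_comap, hcentre V hV]
    refine ⟨fun h hu => ?_, fun h => hV.2 b h⟩
    exact h.ne (EtRamStepLib.valuation_eq_one_of_isUnit V hV hu)
  have : (centre W₁ h₁).IsPrime := Ideal.comap_isPrime _ _
  have : (centre W₂ h₂).IsPrime := Ideal.comap_isPrime _ _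
  obtain ⟨σ, hσ⟩ := Algebra.IsInvariant.exists_smul_of_under_eq_of_profinite (A := B) (G := G) (centre W₁ h₁) (centre W₂ h₂)
    ((hunder W₁ h₁).trans (hunder W₂ h₂).symm)
  have hiff : ∀ d : D, W₂.valuation (σ (d : Ω)) < 1 ↔ W₁.valuation (d : Ω) < 1 := fun d => by
    rw [← hcentre W₁ h₁, ← hsmul, ← hcentre W₂ h₂, hσ, Ideal.smul_mem_pointwise_smul_iff]
  refine ⟨σ, SetLike.ext fun z => ?_⟩
  have halg : ∀ w : Ω, IsAlgebraic L w := fun w => Algebra.IsAlgebraic.isAlgebraic w
  have hone : ∀ (V : ValuationSubring Ω) (hV : EtRam.Dominates B (algebraMap B Ω) V) (d : D),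
      ¬ V.valuation (d : Ω) < 1 → V.valuation (d : Ω) = 1 := fun V hV d h =>
    le_antisymm (valuation_le_one_of_isIntegral V hV d.2) (not_lt.1 h)
  constructor
  · intro hz
    obtain ⟨s, hs, hs1, hsz⟩ := exists_denominator (L := L) W₂ h₂ (halg (σ z)) hz
    let d : D := ⟨σ.symm s, hs.map (σ.symm.toAlgHom.restrictScalars B)⟩
    have hd : σ (d : Ω) = s := σ.apply_symm_apply s
    have h1 : W₁.valuation (d : Ω) = 1 := hone W₁ h₁ d fun h => by
      rw [← hiff, hd, hs1] at h; exact lt_irrefl _ h
    have h2 : IsIntegral B ((d : Ω) * z) := by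
      have := hsz.map (σ.symm.toAlgHom.restrictScalars B)
      rw [map_mul] at this
      rwa [show (σ.symm.toAlgHom.restrictScalars B) (σ z) = z from σ.symm_apply_apply z] at this
    refine (W₁.valuation_le_one_iff z).1 ?_
    have := valuation_le_one_of_isIntegral W₁ h₁ h2
    rwa [map_mul, h1, one_mul] at this
  · intro hz
    obtain ⟨s, hs, hs1, hsz⟩ := exists_denominator (L := L) W₁ h₁ (halg z) hz
    have h1 : W₂.valuation (σ s) = 1 := hone W₂ h₂ ⟨_, hs.map (σ.toAlgHom.restrictScalars B)⟩ fun h => by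
      exact ((hiff ⟨s, hs⟩).1 h).ne hs1
    refine (W₂.valuation_le_one_iff _).1 ?_
    have := valuation_le_one_of_isIntegral W₂ h₂ (hsz.map (σ.toAlgHom.restrictScalars B))
    simp only [AlgHom.coe_restrictScalars', AlgEquiv.coe_toAlgHom, map_mul] at this
    rwa [h1, one_mul] at this

end SHDescLib
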