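import Groth.Agent.SHDescLib.Max
import Groth.Agent.SHDescLib.Conj
import Groth.Agent.SolSepLib.Main
import Groth.Agent.S9634
import Groth.Agent.S9635

/-! Unramified subfields as extensions of discrete valuation rings, and small transfer lemmas. -/

set_option autoImplicit false
universe u

noncomputable section

namespace SHDescLib

open IsLocalRing
open scoped TensorProduct

theorem geomRed_trans {k F E : Type u} [Field k] [Field F] [Field E] [Algebra k F] [Algebra F E] [Algebra k E]
    [IsScalarTower k F E] [Algebra.IsSeparable k F] [Algebra.IsGeometricallyReduced F E] :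
    Algebra.IsGeometricallyReduced k E := by
  have h1 := ((Groth.Agent.S9634.result (k := F) (S := E)).out 1 2).1 ‹_›
  have h2 := (Groth.Agent.S9635.result (k := k) (k' := F) (A := E)).2 h1
  exact ((Groth.Agent.S9634.result (k := k) (S := E)).out 1 2).2 h2

theorem geomRed_self (F : Type u) [Field F] : Algebra.IsGeometricallyReduced F F := by
  rw [Algebra.isGeometricallyReduced_field_iff]
  exact isReduced_of_injective _ (Algebra.TensorProduct.rid F F (AlgebraicClosure F)).injective

theorem geomRed_of_separable {k F : Type u} [Field k] [Field F] [Algebra k F] [Algebra.IsSeparable k F] :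
    Algebra.IsGeometricallyReduced k F := by
  have := geomRed_self F
  exact geomRed_trans (F := F)

/-- Bounds pass along weakly unramified extensions. -/
theorem le_of_weaklyUnramified {K Ω : Type u} [Field K] [Field Ω] (W : ValuationSubring Ω) (f : K →+* Ω)
    (h : letI : Algebra (W.comap f) W := (EtRam.inclOfComap W f).toAlgebra
      EtRam.IsWeaklyUnramified (W.comap f) W)
    {q : W.ValueGroup} (hq : ∀ z : K, W.valuation (f z) < 1 → W.valuation (f z) ≤ q) {z : Ω} (hz : W.valuation z < 1) :
    W.valuation z ≤ q := by
  let J : Ideal W :=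
    { carrier := {w | W.valuation (w : Ω) ≤ q}
      zero_mem' := by simp
      add_mem' := fun {a b} ha hb => W.valuation.map_add_le ha hb
      smul_mem' := fun c w hw => by
        show W.valuation ((c : Ω) * (w : Ω)) ≤ q
        rw [map_mul]
        exact (mul_le_of_le_one_left zero_le ((W.valuation_le_one_iff _).2 c.2)).trans hw }
  have hle : (maximalIdeal (W.comap f)).map (EtRam.inclOfComap W f) ≤ J := Ideal.map_le_iff_le_comap.2 fun a ha =>
    hq (a : K) ((W.valuation_lt_one_iff (EtRam.inclOfComap W f a)).1 fun hu => ha (isUnit_of_map_unit (EtRam.inclOfComap W f) a hu))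
  exact hle (h ▸ (W.valuation_lt_one_iff ⟨z, (W.valuation_le_one_iff _).1 hz.le⟩).2 hz :
    (⟨z, (W.valuation_le_one_iff _).1 hz.le⟩ : W) ∈ _)

section Unr

variable {A K Ω : Type u} [CommRing A] [IsDomain A] [IsDiscreteValuationRing A]
  [Field K] [Algebra A K] [IsFractionRing A K] [Field Ω] [Algebra K Ω]
  (W : ValuationSubring Ω) (hW : EtRam.Dominates A ((algebraMap K Ω).comp (algebraMap A K)) W)
  (F : IntermediateField K Ω)

/-- The map to the integers of an intermediate field. -/
def toO : A →+* W.comap F.val.toRingHom :=
  ((algebraMap K F).comp (algebraMap A K)).codRestrict (W.comap F.val.toRingHom).toSubring fun a => hW.1 a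

theorem isLocalHom_toO : IsLocalHom (toO W hW F) := ⟨fun a ha => by
  by_contra hn
  exact ((W.valuation_lt_one_iff (EtRam.inclOfComap W F.val.toRingHom (toO W hW F a))).2 (hW.2 a hn))
    (ha.map _)⟩

/-- The residue map to the residue field of `W`. -/
def toRes : ResidueField A →+* ResidueField W :=
  haveI : IsLocalHom ((algebraMap K Ω).comp (algebraMap A K) |>.codRestrict W.toSubring hW.1 : A →+* W) := ⟨fun a ha => by
    by_contra hn
    exact ((W.valuation_lt_one_iff _).2 (hW.2 a hn)) ha⟩
  ResidueField.map ((algebraMap K Ω).comp (algebraMap A K) |>.codRestrict W.toSubring hW.1 : A →+* W)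

theorem toRes_residue (a : A) : toRes W hW (residue A a) = residue W ⟨algebraMap K Ω (algebraMap A K a), hW.1 a⟩ := rfl

variable {F}

theorem Unr.weaklyUnramified (h : letI := (toRes W hW).toAlgebra; Unr A W F) :
    letI : Algebra A (W.comap F.val.toRingHom) := (toO W hW F).toAlgebra
    EtRam.IsWeaklyUnramified A (W.comap F.val.toRingHom) := by
  letI := (toRes W hW).toAlgebra
  letI : Algebra A (W.comap F.val.toRingHom) := (toO W hW F).toAlgebra
  obtain ⟨π, hπ⟩ := IsDiscreteValuationRing.exists_irreducible A
  have hU := h.unif hW (fun _ => rfl) hπ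
  have := isLocalHom_toO W hW F
  refine le_antisymm (Ideal.map_le_iff_le_comap.2 fun a ha hu => ha (isUnit_of_map_unit (toO W hW F) a hu)) fun o ho => ?_
  have h1 : W.valuation (F.val.toRingHom (o : F)) < 1 :=
    (W.valuation_lt_one_iff (EtRam.inclOfComap W F.val.toRingHom o)).1 fun hu => ho (isUnit_of_map_unit _ o hu)
  let xF : F := algebraMap K F (algebraMap A K π)
  have h2 : W.valuation (F.val.toRingHom ((o : F) / xF)) ≤ 1 := by
    rw [map_div₀, map_div₀]
    exact div_le_one_of_le₀ (hU.le_of_lt_one h1) zero_le
  have hx : xF ≠ 0 := (_root_.map_ne_zero _).2 ((map_ne_zero_iff _ (IsFractionRing.injective A K)).2 hπ.ne_zero)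
  rw [show o = ⟨_, (W.valuation_le_one_iff _).1 h2⟩ * algebraMap A (W.comap F.val.toRingHom) π from Subtype.ext (by
    show (o : F) = (o : F) / xF * xF
    rw [div_mul_cancel₀ _ hx])]
  exact Ideal.mul_mem_left _ _ (Ideal.mem_map_of_mem _ (hπ.maximalIdeal_eq ▸ Ideal.mem_span_singleton_self π))

theorem Unr.isSeparable_residue (h : letI := (toRes W hW).toAlgebra; Unr A W F) :
    letI : Algebra (ResidueField A) (ResidueField (W.comap F.val.toRingHom)) :=
      (haveI := isLocalHom_toO W hW F; ResidueField.map (toO W hW F)).toAlgebra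
    Algebra.IsSeparable (ResidueField A) (ResidueField (W.comap F.val.toRingHom)) := by
  letI := (toRes W hW).toAlgebra
  haveI := isLocalHom_toO W hW F
  letI : Algebra (ResidueField A) (ResidueField (W.comap F.val.toRingHom)) := (ResidueField.map (toO W hW F)).toAlgebra
  let ι := EtRam.inclOfComap W F.val.toRingHom
  let φ : ResidueField (W.comap F.val.toRingHom) →ₐ[ResidueField A] ResidueField W :=
    { ResidueField.map ι with
      commutes' := fun c => by
        obtain ⟨a, rfl⟩ := residue_surjective c
        rfl }
  refine ⟨fun c => ?_⟩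
  obtain ⟨o, rfl⟩ := residue_surjective c
  refine (isSeparable_map_iff φ φ.toRingHom.injective).1 (mem_separableClosure_iff.1 ?_)
  exact h.res (ι o) (o : F).2

end Unr

end SHDescLib
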