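import Groth.Agent.SHDescLib.Restrict
import Mathlib.FieldTheory.Normal.Closure
import Mathlib.FieldTheory.IsAlgClosed.AlgebraicClosure

/-! Solutions descend from unramified separable algebraic extensions. -/

set_option autoImplicit false
universe u

noncomputable section

namespace SHDescLib

open IsLocalRing IntermediateField
open scoped TensorProduct

variable {A B K L Ω : Type u} [CommRing A] [IsDomain A] [IsDiscreteValuationRing A] [CommRing B] [IsDomain B]
  [IsDiscreteValuationRing B] [Algebra A B] [IsLocalHom (algebraMap A B)]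
  [Field K] [Field L] [Algebra A K] [IsFractionRing A K] [Algebra B L] [IsFractionRing B L] [Algebra K L]
  [Field Ω] [Algebra L Ω] [Algebra K Ω] [IsScalarTower K L Ω] [Algebra B Ω] [IsScalarTower B L Ω] [IsGalois L Ω]
  {W : ValuationSubring Ω}

set_option maxHeartbeats 2000000 in
set_option synthInstance.maxHeartbeats 200000 in
theorem descend (hWB : EtRam.Dominates B (algebraMap B Ω) W)
    (hA : ∀ a : A, algebraMap K L (algebraMap A K a) = algebraMap B L (algebraMap A B a))
    (hWA : EtRam.Dominates A ((algebraMap K Ω).comp (algebraMap A K)) W)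
    (hWL : EtRam.Dominates B ((algebraMap L Ω).comp (algebraMap B L)) W)
    (K' : IntermediateField K Ω) (hK' : letI := (toRes W hWA).toAlgebra; Unr A W K')
    (L' : IntermediateField L Ω) (hL' : letI := (toRes W hWL).toAlgebra; Unr B W L')
    [Algebra K' L'] (hKL : ∀ z : K', ((algebraMap K' L' z : L') : Ω) = z)
    (K₁' : Type u) [Field K₁'] [Algebra K' K₁'] [FiniteDimensional K' K₁']
    (hsol : EtRam.IsSolution (W.comap L'.val.toRingHom) K' L' K₁') :
    ∃ (K₁ : Type u) (_ : Field K₁) (_ : Algebra K K₁), FiniteDimensional K K₁ ∧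
      (Algebra.IsSeparable K' K₁' → Algebra.IsSeparable K K₁) ∧ EtRam.IsSolution B K L K₁ := by
  classical
  obtain ⟨πA, hπA⟩ := IsDiscreteValuationRing.exists_irreducible A
  obtain ⟨πB, hπB⟩ := IsDiscreteValuationRing.exists_irreducible B
  have hUA := (letI := (toRes W hWA).toAlgebra; hK'.unif hWA (fun _ => rfl) hπA)
  have hUB := (letI := (toRes W hWL).toAlgebra; hL'.unif hWL (fun _ => rfl) hπB)
  have hDA : IsDiscreteValuationRing (W.comap K'.val.toRingHom) := hUA.isDVR
  have hDB : IsDiscreteValuationRing (W.comap L'.val.toRingHom) := hUB.isDVR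
  have hKsep : Algebra.IsSeparable K K' := ⟨fun z => by
    have := (letI := (toRes W hWA).toAlgebra; hK'.sep z z.2)
    exact (isSeparable_map_iff K'.val K'.val.toRingHom.injective).1 this⟩
  have : Algebra.IsAlgebraic K K' := Algebra.IsSeparable.isAlgebraic K K'
  let Ω₂ := AlgebraicClosure K'
  have : Algebra.IsAlgebraic K Ω₂ := Algebra.IsAlgebraic.trans K K' Ω₂
  have : IsAlgClosure K Ω₂ := ⟨inferInstance, inferInstance⟩
  have : Normal K Ω₂ := IsAlgClosure.normal K Ω₂
  let jK : K₁' →ₐ[K'] Ω₂ := IsAlgClosed.lift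
  let b := Module.finBasis K' K₁'
  let G : IntermediateField K Ω₂ := adjoin K (Set.range (jK ∘ b))
  have hGfin : FiniteDimensional K G :=
    finiteDimensional_adjoin fun z _ => (Algebra.IsAlgebraic.isAlgebraic z).isIntegral
  let K₁ : IntermediateField K Ω₂ := IntermediateField.normalClosure K G Ω₂
  have : FiniteDimensional K K₁ := normalClosure.is_finiteDimensional K G Ω₂
  have : Normal K K₁ := normalClosure.normal K G Ω₂
  have hGK : G ≤ K₁ := IntermediateField.le_normalClosure G
  refine ⟨K₁, inferInstance, inferInstance, inferInstance, fun hs => ?_, ?_⟩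
  · have hG : G ≤ separableClosure K Ω₂ := adjoin_le_iff.2 (by
      rintro _ ⟨i, rfl⟩
      have h : IsSeparable K' (jK (b i)) := IsSeparable.map jK jK.toRingHom.injective (Algebra.IsSeparable.isSeparable K' (b i))
      exact mem_separableClosure_iff.2 (IsSeparable.of_algebra_isSeparable_of_isSeparable K h))
    have hle : K₁ ≤ separableClosure K Ω₂ := normalClosure_le_iff.2 fun f => by
      rintro _ ⟨⟨z, hz⟩, rfl⟩
      refine mem_separableClosure_iff.2 (IsSeparable.map f f.toRingHom.injective ?_)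
      exact (isSeparable_map_iff G.val G.val.toRingHom.injective).1 (mem_separableClosure_iff.1 (hG hz))
    exact ⟨fun z => (isSeparable_map_iff K₁.val K₁.val.toRingHom.injective).1 (mem_separableClosure_iff.1 (hle z.2))⟩
  intro M _ _ _ _ _ _ hgen WM hWM
  let Ω₃ := AlgebraicClosure M
  let iM : M →+* Ω₃ := algebraMap M Ω₃
  obtain ⟨W₃, hW₃⟩ := exists_extension WM iM
  -- an embedding respecting the valuation rings
  have : Algebra.IsAlgebraic L Ω := Algebra.IsSeparable.isAlgebraic L Ω
  let ι₀ : Ω →ₐ[L] Ω₃ := IsAlgClosed.lift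
  have hB3 : ∀ c : B, ι₀ (algebraMap B Ω c) = iM (algebraMap L M (algebraMap B L c)) := fun c => by
    rw [IsScalarTower.algebraMap_apply B L Ω, AlgHom.commutes, IsScalarTower.algebraMap_apply L M Ω₃]
  have hW' : EtRam.Dominates B (algebraMap B Ω) (W₃.comap ι₀.toRingHom) := by
    refine ⟨fun c => ?_, fun c hc => (valuation_comap_lt_one_iff W₃ _ _).2 ?_⟩
    · show ι₀ _ ∈ W₃
      rw [hB3]
      have : algebraMap L M (algebraMap B L c) ∈ WM := hWM.1 c
      rw [← hW₃] at this
      exact this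
    · show W₃.valuation (ι₀ _) < 1
      rw [hB3]
      refine (valuation_comap_lt_one_iff W₃ iM _).1 ?_
      rw [hW₃]; exact hWM.2 c hc
  obtain ⟨σ, hσ⟩ := exists_conj (L := L) hWB hW'
  let τ : Ω →ₐ[L] Ω₃ := ι₀.comp σ.toAlgHom
  have hτ : W₃.comap τ.toRingHom = W := hσ
  have hτK : ∀ c : K, τ (algebraMap K Ω c) = algebraMap K Ω₃ c := fun c => by
    rw [IsScalarTower.algebraMap_apply K L Ω, AlgHom.commutes, IsScalarTower.algebraMap_apply K M Ω₃,
      IsScalarTower.algebraMap_apply K L M, ← IsScalarTower.algebraMap_apply L M Ω₃]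
  letI aK' : Algebra K' Ω₃ := (τ.toRingHom.comp K'.val.toRingHom).toAlgebra
  letI aL' : Algebra L' Ω₃ := (τ.toRingHom.comp L'.val.toRingHom).toAlgebra
  have : IsScalarTower K K' Ω₃ := IsScalarTower.of_algebraMap_eq fun c => (hτK c).symm
  have : IsScalarTower K' L' Ω₃ := IsScalarTower.of_algebraMap_eq fun z => (congrArg τ (hKL z)).symm
  let ψ : Ω₂ →ₐ[K'] Ω₃ := IsAlgClosed.lift
  let j' : K₁' →ₐ[K'] Ω₃ := ψ.comp jK
  -- the two embeddings of the normal extension
  let e : K₁ →ₐ[K] Ω₃ := (IsScalarTower.toAlgHom K M Ω₃).comp (IsScalarTower.toAlgHom K K₁ M)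
  have : Normal K e.fieldRange := Normal.of_algEquiv (AlgEquiv.ofInjectiveField e)
  have hψe : ∀ z : K₁, ψ (z : Ω₂) ∈ Set.range e := fun z => by
    let r : e.fieldRange →ₐ[K] Ω₃ :=
      ((ψ.restrictScalars K).comp K₁.val).comp (AlgEquiv.ofInjectiveField e).symm.toAlgHom
    have hr : ψ (z : Ω₂) ∈ r.fieldRange :=
      ⟨AlgEquiv.ofInjectiveField e z, congrArg (fun w : K₁ => ψ (w : Ω₂)) ((AlgEquiv.ofInjectiveField e).symm_apply_apply z)⟩
    rw [AlgHom.fieldRange_of_normal r] at hr
    exact hr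
  -- the fields
  let bK := Module.finBasis K K₁
  let M₁ : IntermediateField L' Ω₃ := adjoin L' (Set.range (j' ∘ b))
  let K₂ : IntermediateField K' Ω₃ := adjoin K' (Set.range (e ∘ bK))
  let M₃ : IntermediateField L' Ω₃ := adjoin L' (Set.range (e ∘ bK))
  have hK₂M₃ : ∀ z ∈ K₂, z ∈ M₃ := fun z hz => by
    have : K₂ ≤ M₃.restrictScalars K' := adjoin_le_iff.2 (subset_adjoin L' _)
    exact this hz
  have heK₂ : ∀ z : K₁, e z ∈ K₂ := fun z => by
    rw [← bK.sum_repr z, map_sum]
    refine sum_mem fun i _ => ?_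
    rw [map_smul, Algebra.smul_def, IsScalarTower.algebraMap_apply K K' Ω₃]
    exact mul_mem (IntermediateField.algebraMap_mem _ _) (subset_adjoin K' _ ⟨i, rfl⟩)
  have hj'K₂ : ∀ z : K₁', j' z ∈ K₂ := fun z => by
    rw [← b.sum_repr z, map_sum]
    refine sum_mem fun i _ => ?_
    rw [map_smul, Algebra.smul_def]
    refine mul_mem (IntermediateField.algebraMap_mem _ _) ?_
    obtain ⟨w, hw⟩ := hψe ⟨jK (b i), hGK (subset_adjoin K _ ⟨i, rfl⟩)⟩
    exact (show j' (b i) = e w from hw.symm) ▸ heK₂ w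
  have hj'M₁ : ∀ z : K₁', j' z ∈ M₁ := fun z => by
    rw [← b.sum_repr z, map_sum]
    refine sum_mem fun i _ => ?_
    rw [map_smul, Algebra.smul_def, IsScalarTower.algebraMap_apply K' L' Ω₃]
    exact mul_mem (IntermediateField.algebraMap_mem _ _) (subset_adjoin L' _ ⟨i, rfl⟩)
  have hM₁M₃ : M₁ ≤ M₃ := adjoin_le_iff.2 (by
    rintro _ ⟨i, rfl⟩
    exact hK₂M₃ _ (hj'K₂ (b i)))
  have hj'int : ∀ z, IsIntegral L' (j' z) := fun z => ((IsIntegral.of_finite K' z).map j').tower_top
  have heint' : ∀ z, IsIntegral K' (e z) := fun z => ((IsIntegral.of_finite K z).map e).tower_top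
  have heint : ∀ z, IsIntegral L' (e z) := fun z => (heint' z).tower_top
  have : FiniteDimensional L' M₁ := finiteDimensional_adjoin (by rintro _ ⟨i, rfl⟩; exact hj'int _)
  have : FiniteDimensional K' K₂ := finiteDimensional_adjoin (by rintro _ ⟨i, rfl⟩; exact heint' _)
  -- structures
  letI : Algebra K₁' M₁ := (j'.toRingHom.codRestrict M₁.toSubfield.toSubring hj'M₁).toAlgebra
  letI : Algebra K₁' K₂ := (j'.toRingHom.codRestrict K₂.toSubfield.toSubring hj'K₂).toAlgebra
  letI : Algebra K₁ K₂ := (e.toRingHom.codRestrict K₂.toSubfield.toSubring heK₂).toAlgebra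
  letI : Algebra M₁ M₃ := (IntermediateField.inclusion hM₁M₃).toRingHom.toAlgebra
  letI : Algebra K₂ M₃ := (K₂.val.toRingHom.codRestrict M₃.toSubfield.toSubring fun z => hK₂M₃ z z.2).toAlgebra
  letI : Algebra K₁' M₃ := ((algebraMap M₁ M₃).comp (algebraMap K₁' M₁)).toAlgebra
  letI : Algebra K' M₁ := ((algebraMap L' M₁).comp (algebraMap K' L')).toAlgebra
  have : IsScalarTower K' L' M₁ := IsScalarTower.of_algebraMap_eq fun z => rfl
  have : IsScalarTower K' K₁' M₁ := IsScalarTower.of_algebraMap_eq fun z => Subtype.ext (by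
    show algebraMap L' Ω₃ (algebraMap K' L' z) = j' (algebraMap K' K₁' z)
    rw [j'.commutes, ← IsScalarTower.algebraMap_apply])
  have : IsScalarTower K' K₁' K₂ := IsScalarTower.of_algebraMap_eq fun z => Subtype.ext (by
    show algebraMap K' Ω₃ z = j' (algebraMap K' K₁' z)
    rw [j'.commutes])
  have : IsScalarTower K₁' M₁ M₃ := IsScalarTower.of_algebraMap_eq fun z => rfl
  have : IsScalarTower K₁' K₂ M₃ := IsScalarTower.of_algebraMap_eq fun z => rfl
  have : FiniteDimensional K₁' K₂ := Module.Finite.right K' K₁' K₂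
  have : IsScalarTower K K₁ K₂ := IsScalarTower.of_algebraMap_eq fun c => Subtype.ext (by
    show algebraMap K Ω₃ c = e (algebraMap K K₁ c)
    rw [e.commutes])
  -- generation
  have hgen₁ : Algebra.adjoin L' (Set.range (algebraMap K₁' M₁)) = ⊤ := by
    refine adjoin_top M₁ _ (fun x hx => ?_) ?_
    · obtain ⟨z, rfl⟩ := hx
      exact ((isIntegral_algHom_iff M₁.val M₁.val.toRingHom.injective).1 (hj'int z)).isAlgebraic
    · refine adjoin_le_iff.2 ?_
      rintro _ ⟨i, rfl⟩
      exact subset_adjoin L' _ ⟨algebraMap K₁' M₁ (b i), ⟨b i, rfl⟩, rfl⟩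
  have hgen₂ : Algebra.adjoin K' (Set.range (algebraMap K₁ K₂)) = ⊤ := by
    refine adjoin_top K₂ _ (fun x _ => Algebra.IsAlgebraic.isAlgebraic x) ?_
    refine adjoin_le_iff.2 ?_
    rintro _ ⟨i, rfl⟩
    exact subset_adjoin K' _ ⟨algebraMap K₁ K₂ (bK i), ⟨bK i, rfl⟩, rfl⟩
  have hgen₃ : Algebra.adjoin M₁ (Set.range (algebraMap K₂ M₃)) = ⊤ := by
    have h : Algebra.adjoin L' (Set.range (algebraMap K₂ M₃)) = ⊤ := by
      refine adjoin_top M₃ _ (fun x hx => ?_) ?_
      · obtain ⟨z, rfl⟩ := hx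
        refine IsIntegral.isAlgebraic ((isIntegral_algHom_iff M₃.val M₃.val.toRingHom.injective).1 ?_)
        exact ((IsIntegral.of_finite K' z).map K₂.val).tower_top
      · refine adjoin_le_iff.2 ?_
        rintro _ ⟨i, rfl⟩
        exact subset_adjoin L' _ ⟨algebraMap K₂ M₃ ⟨e (bK i), heK₂ _⟩, ⟨_, rfl⟩, rfl⟩
    refine eq_top_iff.2 fun z hz0 => ?_
    clear hz0
    have hz : z ∈ Algebra.adjoin L' (Set.range (algebraMap K₂ M₃)) := h ▸ Algebra.mem_top
    induction hz using Algebra.adjoin_induction with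
    | mem w hw => exact Algebra.subset_adjoin hw
    | algebraMap l => exact Subalgebra.algebraMap_mem _ (algebraMap L' M₁ l)
    | add a c _ _ ha hc => exact add_mem ha hc
    | mul a c _ _ ha hc => exact mul_mem ha hc
  -- valuation rings
  have hτlt : ∀ w : Ω, W₃.valuation (τ w) < 1 ↔ W.valuation w < 1 := fun w => by
    have := valuation_comap_lt_one_iff W₃ τ.toRingHom w
    rw [hτ] at this
    exact this.symm
  have hτmem : ∀ w : Ω, τ w ∈ W₃ ↔ w ∈ W := fun w => by rw [← hτ]; rfl
  have hdomB₁ : EtRam.Dominates (W.comap L'.val.toRingHom)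
      ((algebraMap L' M₁).comp (algebraMap (W.comap L'.val.toRingHom) L')) (W₃.comap M₁.val.toRingHom) := by
    refine ⟨fun a => (hτmem _).2 a.2, fun a ha => (valuation_comap_lt_one_iff W₃ _ _).2 ((hτlt _).2 ?_)⟩
    exact (W.valuation_lt_one_iff (EtRam.inclOfComap W L'.val.toRingHom a)).1 fun hu =>
      ha (isUnit_of_map_unit (EtRam.inclOfComap W L'.val.toRingHom) a hu)
  obtain ⟨hwu₁, hgr₁⟩ := hsol M₁ hgen₁ (W₃.comap M₁.val.toRingHom) hdomB₁
  -- the middle rings are discrete valuation rings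
  obtain ⟨πA', hπA'⟩ := IsDiscreteValuationRing.exists_irreducible (W.comap K'.val.toRingHom)
  obtain ⟨πB', hπB'⟩ := IsDiscreteValuationRing.exists_irreducible (W.comap L'.val.toRingHom)
  have hdomA₃ : EtRam.Dominates (W.comap K'.val.toRingHom)
      ((algebraMap K' Ω₃).comp (algebraMap (W.comap K'.val.toRingHom) K')) W₃ := by
    refine ⟨fun a => (hτmem _).2 a.2, fun a ha => (hτlt _).2 ?_⟩
    exact (W.valuation_lt_one_iff (EtRam.inclOfComap W K'.val.toRingHom a)).1 fun hu =>
      ha (isUnit_of_map_unit (EtRam.inclOfComap W K'.val.toRingHom) a hu)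
  have hdomB₃ : EtRam.Dominates (W.comap L'.val.toRingHom)
      ((algebraMap L' Ω₃).comp (algebraMap (W.comap L'.val.toRingHom) L')) W₃ :=
    ⟨hdomB₁.1, fun a ha => (valuation_comap_lt_one_iff W₃ M₁.val.toRingHom _).1 (hdomB₁.2 a ha)⟩
  obtain ⟨x₁, hx₁, -⟩ := SolSepLib.exists_unif W₃ j'.toRingHom (RingHom.ext j'.commutes) hπA' hdomA₃
  have hDV₁ : IsDiscreteValuationRing ((W₃.comap M₁.val.toRingHom).comap (algebraMap K₁' M₁)) := hx₁.isDVR
  obtain ⟨x₂, hx₂, -⟩ := SolSepLib.exists_unif W₃ M₁.val.toRingHom (RingHom.ext M₁.val.commutes) hπB' hdomB₃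
  have hDW₁ : IsDiscreteValuationRing (W₃.comap M₁.val.toRingHom) := hx₂.isDVR
  letI : Algebra ((W₃.comap M₁.val.toRingHom).comap (algebraMap K₁' M₁)) (W₃.comap M₁.val.toRingHom) :=
    (EtRam.inclOfComap (W₃.comap M₁.val.toRingHom) (algebraMap K₁' M₁)).toAlgebra
  have : IsLocalHom (algebraMap ((W₃.comap M₁.val.toRingHom).comap (algebraMap K₁' M₁)) (W₃.comap M₁.val.toRingHom)) :=
    EtRam.isLocalHom_inclOfComap _ _
  have hW₃M₁ : EtRam.Dominates (W₃.comap M₁.val.toRingHom)
      ((algebraMap M₁ M₃).comp (algebraMap (W₃.comap M₁.val.toRingHom) M₁)) (W₃.comap M₃.val.toRingHom) := by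
    refine ⟨fun a => a.2, fun a ha => (valuation_comap_lt_one_iff W₃ _ _).2 ?_⟩
    exact (valuation_comap_lt_one_iff W₃ M₁.val.toRingHom _).1 (((W₃.comap M₁.val.toRingHom).valuation_lt_one_iff a).1 ha)
  have : Algebra.IsGeometricallyReduced (ResidueField ((W₃.comap M₁.val.toRingHom).comap (algebraMap K₁' M₁)))
      (ResidueField (W₃.comap M₁.val.toRingHom)) := by
    convert hgr₁ using 1
    exact Algebra.algebra_ext _ _ fun r => by obtain ⟨r, rfl⟩ := residue_surjective r; rfl
  obtain ⟨hwu₂, hgr₂⟩ := SolSepLib.local_solution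
    (A := (W₃.comap M₁.val.toRingHom).comap (algebraMap K₁' M₁)) (B := W₃.comap M₁.val.toRingHom)
    (K := K₁') (L := M₁) (K₁ := K₂) (M := M₃) (fun a => rfl) hwu₁ hgen₃ (W₃.comap M₃.val.toRingHom) hW₃M₁
  -- the first layer
  letI : Algebra A (W.comap K'.val.toRingHom) := (toO W hWA K').toAlgebra
  have : IsLocalHom (algebraMap A (W.comap K'.val.toRingHom)) := isLocalHom_toO W hWA K'
  have hwA := hK'.weaklyUnramified W hWA
  have hsA := hK'.isSeparable_residue W hWA
  have : Algebra.IsSeparable (ResidueField A) (ResidueField (W.comap K'.val.toRingHom)) := by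
    convert hsA using 1
    exact Algebra.algebra_ext _ _ fun r => by obtain ⟨r, rfl⟩ := residue_surjective r; rfl
  have : Algebra.IsGeometricallyReduced (ResidueField A) (ResidueField (W.comap K'.val.toRingHom)) := geomRed_of_separable
  have hdomK₂ : EtRam.Dominates (W.comap K'.val.toRingHom)
      ((algebraMap K' K₂).comp (algebraMap (W.comap K'.val.toRingHom) K')) ((W₃.comap M₃.val.toRingHom).comap (algebraMap K₂ M₃)) :=
    ⟨hdomA₃.1, fun a ha => (valuation_comap_lt_one_iff _ _ _).2 ((valuation_comap_lt_one_iff W₃ _ _).2 (hdomA₃.2 a ha))⟩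
  obtain ⟨hwu₃, -, hcl⟩ := SolSepLib.local_solution_residue
    (A := A) (B := W.comap K'.val.toRingHom) (K := K) (L := K') (K₁ := K₁) (M := K₂) (fun a => rfl) hwA hgen₂
    ((W₃.comap M₃.val.toRingHom).comap (algebraMap K₂ M₃)) hdomK₂
  -- the image of `M`
  have hMM₃ : ∀ m : M, iM m ∈ M₃ := fun m => by
    have hm : m ∈ Algebra.adjoin L (Set.range (algebraMap K₁ M)) := hgen ▸ Algebra.mem_top
    induction hm using Algebra.adjoin_induction with
    | mem w hw => obtain ⟨z, rfl⟩ := hw; exact hK₂M₃ _ (heK₂ z)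
    | algebraMap l =>
      rw [show iM (algebraMap L M l) = algebraMap L' Ω₃ (algebraMap L L' l) from
        ((τ.commutes l).trans (IsScalarTower.algebraMap_apply L M Ω₃ l)).symm]
      exact IntermediateField.algebraMap_mem _ _
    | add a c _ _ ha hc => rw [map_add]; exact add_mem ha hc
    | mul a c _ _ ha hc => rw [map_mul]; exact mul_mem ha hc
  have hWMmem : ∀ m : M, m ∈ WM ↔ iM m ∈ W₃ := fun m => by rw [← hW₃]; rfl
  have hWMlt : ∀ m : M, WM.valuation m < 1 ↔ W₃.valuation (iM m) < 1 := fun m => by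
    have := valuation_comap_lt_one_iff W₃ iM m
    rw [hW₃] at this
    exact this
  -- the uniformiser
  obtain ⟨x, hx, -⟩ := SolSepLib.exists_unif (g := algebraMap K M) WM (algebraMap K₁ M)
    (IsScalarTower.algebraMap_eq K K₁ M).symm hπA (by
      have he : ∀ a, ((algebraMap K M).comp (algebraMap A K)) a = algebraMap L M (algebraMap B L (algebraMap A B a)) :=
        fun a => by rw [← hA, ← IsScalarTower.algebraMap_apply]; rfl
      exact ⟨fun a => he a ▸ hWM.1 _, fun a ha => he a ▸ hWM.2 _ fun hu => ha (IsUnit.of_map (algebraMap A B) a hu)⟩)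
  let q := W₃.valuation (e x)
  have hq₁ : ∀ z : K₁, W₃.valuation (e z) < 1 → W₃.valuation (e z) ≤ q := fun z hz => by
    by_cases hz0 : z = 0
    · simp [hz0]
    have h1 := hx.le_of_lt_one ((hWMlt _).2 hz)
    have h2 : WM.valuation (algebraMap K₁ M z / algebraMap K₁ M x) ≤ 1 := by
      rw [map_div₀]; exact div_le_one_of_le₀ h1 zero_le
    have h3 := (W₃.valuation_le_one_iff _).2 ((hWMmem _).1 ((WM.valuation_le_one_iff _).1 h2))
    rw [map_div₀ iM, map_div₀ W₃.valuation, div_le_one₀ (zero_lt_iff.2 ((_root_.map_ne_zero _).2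
      ((_root_.map_ne_zero iM).2 ((_root_.map_ne_zero _).2 hx.ne))))] at h3
    exact h3
  have hq₂ : ∀ z : K₂, W₃.valuation (z : Ω₃) < 1 → W₃.valuation (z : Ω₃) ≤ q := fun z hz =>
    le_of_wu W₃ K₂.val.toRingHom (algebraMap K₁ K₂) hwu₃ (fun w hw => hq₁ w hw) hz
  have hq₃ : ∀ z : M₃, W₃.valuation (z : Ω₃) < 1 → W₃.valuation (z : Ω₃) ≤ q := fun z hz =>
    le_of_wu W₃ M₃.val.toRingHom (algebraMap K₂ M₃) hwu₂ (fun w hw => hq₂ w hw) hz
  refine ⟨EtRamStepLib.weaklyUnramified_of_le WM (algebraMap K₁ M) x hx.lt fun z hz => ?_, ?_⟩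
  · have h1 : W₃.valuation (iM z) ≤ q := hq₃ ⟨iM z, hMM₃ z⟩ ((hWMlt z).1 hz)
    have h2 : W₃.valuation (iM (z / algebraMap K₁ M x)) ≤ 1 := by
      rw [map_div₀, map_div₀]; exact div_le_one_of_le₀ h1 zero_le
    have h3 := (WM.valuation_le_one_iff _).2 ((hWMmem _).2 ((W₃.valuation_le_one_iff _).1 h2))
    rwa [map_div₀, div_le_one₀ (zero_lt_iff.2 ((_root_.map_ne_zero _).2 ((_root_.map_ne_zero _).2 hx.ne)))] at h3
  -- the residue fields
  let V := WM.comap (algebraMap K₁ M)
  let V₂ := (W₃.comap M₃.val.toRingHom).comap (algebraMap K₂ M₃)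
  let rV : V →+* V₂ := ((algebraMap K₁ K₂).comp V.subtype).codRestrict V₂.toSubring fun z => (hWMmem _).1 z.2
  have : IsLocalHom rV := ⟨fun a ha => by
    by_contra hn
    have h1 := (WM.valuation_lt_one_iff (EtRam.inclOfComap WM (algebraMap K₁ M) a)).1 fun hu =>
      hn (isUnit_of_map_unit (EtRam.inclOfComap WM (algebraMap K₁ M)) a hu)
    have h2 : V₂.valuation (rV a : K₂) = 1 := (V₂.valuation_eq_one_iff _).1 ha
    refine h2.not_lt ((valuation_comap_lt_one_iff _ _ _).2 ((valuation_comap_lt_one_iff W₃ _ _).2 ?_))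
    exact (hWMlt _).1 h1⟩
  let rM : WM →+* (W₃.comap M₃.val.toRingHom) := ((iM.codRestrict M₃.toSubfield.toSubring hMM₃).comp WM.subtype).codRestrict
    (W₃.comap M₃.val.toRingHom).toSubring fun z => (hWMmem _).1 z.2
  have : IsLocalHom rM := ⟨fun a ha => by
    by_contra hn
    have h1 := (WM.valuation_lt_one_iff a).1 hn
    have h2 := ((W₃.comap M₃.val.toRingHom).valuation_eq_one_iff (rM a)).1 ha
    exact h2.not_lt ((valuation_comap_lt_one_iff W₃ _ _).2 ((hWMlt _).1 h1))⟩
  let k := ResidueField V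
  let F := ResidueField V₂
  let E₀ := ResidueField WM
  let E := ResidueField (W₃.comap M₃.val.toRingHom)
  letI : Algebra k E₀ := (ResidueField.map (EtRam.inclOfComap WM (algebraMap K₁ M))).toAlgebra
  letI : Algebra k F := (ResidueField.map rV).toAlgebra
  letI : Algebra F E := (ResidueField.map (EtRam.inclOfComap (W₃.comap M₃.val.toRingHom) (algebraMap K₂ M₃))).toAlgebra
  letI : Algebra k E := ((algebraMap F E).comp (algebraMap k F)).toAlgebra
  have : IsScalarTower k F E := IsScalarTower.of_algebraMap_eq fun _ => rfl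
  have : Algebra.IsGeometricallyReduced F E := hgr₂
  let φ : E₀ →ₐ[k] E :=
    { ResidueField.map rM with
      commutes' := fun c => by
        obtain ⟨a, rfl⟩ := residue_surjective c
        rfl }
  -- separability of the middle residue extension
  let gA : A →+* V := ((algebraMap K K₁).comp (algebraMap A K)).codRestrict V.toSubring fun a => by
    show algebraMap K₁ M (algebraMap K K₁ (algebraMap A K a)) ∈ WM
    rw [← IsScalarTower.algebraMap_apply K K₁ M, IsScalarTower.algebraMap_apply K L M, hA]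
    exact hWM.1 _
  have : IsLocalHom gA := ⟨fun a ha => by
    by_contra hn
    have h2 : WM.valuation (algebraMap K₁ M (algebraMap K K₁ (algebraMap A K a))) = 1 :=
      (WM.valuation_eq_one_iff _).1 (ha.map (EtRam.inclOfComap WM (algebraMap K₁ M)))
    refine h2.not_lt ?_
    rw [← IsScalarTower.algebraMap_apply K K₁ M, IsScalarTower.algebraMap_apply K L M, hA]
    exact hWM.2 _ fun hu => hn (IsUnit.of_map (algebraMap A B) a hu)⟩
  letI : Algebra (ResidueField A) k := (ResidueField.map gA).toAlgebra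
  letI : Algebra (ResidueField A) F := ((algebraMap k F).comp (algebraMap (ResidueField A) k)).toAlgebra
  have : IsScalarTower (ResidueField A) k F := IsScalarTower.of_algebraMap_eq fun _ => rfl
  let gW : W.comap K'.val.toRingHom →+* V₂ :=
    ((algebraMap K' K₂).comp (W.comap K'.val.toRingHom).subtype).codRestrict V₂.toSubring hdomK₂.1
  have : IsLocalHom gW := ⟨fun a ha => by
    by_contra hn
    exact ((V₂.valuation_eq_one_iff _).1 ha).not_lt (hdomK₂.2 a hn)⟩
  let β : ResidueField (W.comap K'.val.toRingHom) →ₐ[ResidueField A] F :=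
    { ResidueField.map gW with
      commutes' := fun c => by
        obtain ⟨a, rfl⟩ := residue_surjective c
        show residue V₂ (gW (toO W hWA K' a)) = residue V₂ (rV (gA a))
        exact congrArg _ (Subtype.ext ((IsScalarTower.algebraMap_apply K K' K₂ (algebraMap A K a)).symm.trans
          (IsScalarTower.algebraMap_apply K K₁ K₂ (algebraMap A K a)))) }
  have : Algebra.IsSeparable k F := by
    refine ⟨fun c => mem_separableClosure_iff.1 ?_⟩
    refine (Subring.closure_le (t := (separableClosure k F).toSubfield.toSubring)).2 ?_ (hcl c)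
    rintro w (⟨v, rfl⟩ | ⟨a, rfl⟩)
    · obtain ⟨v, rfl⟩ := residue_surjective v
      show _ ∈ separableClosure k F
      have hv : (v : K₁) ∈ V := (hWMmem _).2 v.2
      rw [ResidueField.map_residue,
        show residue V₂ (EtRam.inclOfComap V₂ (algebraMap K₁ K₂) v) = algebraMap k F (residue V ⟨v, hv⟩) from rfl]
      exact IntermediateField.algebraMap_mem _ _
    · show _ ∈ separableClosure k F
      refine mem_separableClosure_iff.2 ?_
      have h1 : IsSeparable (ResidueField A) (β (residue (W.comap K'.val.toRingHom) a)) :=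
        IsSeparable.map β β.toRingHom.injective (Algebra.IsSeparable.isSeparable (ResidueField A) _)
      have h2 : IsSeparable k (β (residue (W.comap K'.val.toRingHom) a)) := h1.tower_top k
      have h3 : β (residue (W.comap K'.val.toRingHom) a) = residue V₂ (gW a) := ResidueField.map_residue gW a
      rw [h3] at h2
      exact h2
  have : Algebra.IsGeometricallyReduced k E := geomRed_trans (F := F)
  exact Algebra.IsGeometricallyReduced.of_injective φ φ.toRingHom.injective

end SHDescLib
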