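import Groth.Agent.SHDescLib.Unr
import Mathlib.Algebra.Polynomial.Eval.Irreducible
import Mathlib.Order.Zorn

/-! Maximal unramified subfields have separably closed residue fields. -/

set_option autoImplicit false
universe u

noncomputable section

namespace SHDescLib

open IsLocalRing Polynomial

variable {A K Ω : Type u} [CommRing A] [IsDomain A] [IsDiscreteValuationRing A]
  [Field K] [Algebra A K] [IsFractionRing A K] [Field Ω] [Algebra K Ω]
  {W : ValuationSubring Ω} [Algebra (ResidueField A) (ResidueField W)]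
  (hW : EtRam.Dominates A ((algebraMap K Ω).comp (algebraMap A K)) W)
  (hres : ∀ a : A, algebraMap (ResidueField A) (ResidueField W) (residue A a) =
    residue W ⟨algebraMap K Ω (algebraMap A K a), hW.1 a⟩)

include hW hres

theorem exists_maximal (S : IntermediateField K Ω) :
    ∃ F : IntermediateField K Ω, F ≤ S ∧ Unr A W F ∧ ∀ F' : IntermediateField K Ω, F ≤ F' → F' ≤ S → Unr A W F' → F' = F := by
  obtain ⟨F, -, ⟨⟨hFS, hF⟩, hmax⟩⟩ := zorn_le_nonempty₀ {F : IntermediateField K Ω | F ≤ S ∧ Unr A W F}
    (fun c hc hchain y hy => by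
      have hdir : DirectedOn (· ≤ ·) c := hchain.directedOn
      have : Nonempty c := ⟨⟨y, hy⟩⟩
      refine ⟨sSup c, ⟨sSup_le fun F hF => (hc hF).1, ?_⟩, fun F hF => le_sSup hF⟩
      have hmem : ∀ z ∈ sSup c, ∃ F ∈ c, z ∈ F := by
        intro z hz
        rw [sSup_eq_iSup', ← SetLike.mem_coe,
          IntermediateField.coe_iSup_of_directed (hdir.directed_val)] at hz
        · obtain ⟨⟨F, hF⟩, hzF⟩ := Set.mem_iUnion.1 hz
          exact ⟨F, hF, hzF⟩
      refine ⟨fun z hz => ?_, fun π hπ z hz hz0 => ?_, fun w hw => ?_⟩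
      · obtain ⟨F, hF, hzF⟩ := hmem z hz; exact (hc hF).2.sep z hzF
      · obtain ⟨F, hF, hzF⟩ := hmem z hz; exact (hc hF).2.val π hπ z hzF hz0
      · obtain ⟨F, hF, hzF⟩ := hmem _ hw; exact (hc hF).2.res w hzF)
    ⊥ ⟨bot_le, unr_bot hW hres⟩
  exact ⟨F, hFS, hF, fun F' h1 h2 h3 => le_antisymm (hmax ⟨h2, h3⟩ h1) h1⟩

variable [IsSepClosed Ω]

/-- Lifting an irreducible separable polynomial of the residue field. -/
theorem Unr.exists_lift {F : IntermediateField K Ω} (hF : Unr A W F) {f : (ResidueField (W.comap F.val.toRingHom))[X]}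
    (hf : f.Monic) (hirr : Irreducible f) (hsep : f.Separable) :
    (∃ rb : ResidueField W, f.eval₂ (ResidueField.map (EtRam.inclOfComap W F.val.toRingHom)) rb = 0) ∧
      ∀ rb : ResidueField W, f.eval₂ (ResidueField.map (EtRam.inclOfComap W F.val.toRingHom)) rb = 0 →
        ∃ (r : W) (F' : IntermediateField K Ω), residue W r = rb ∧ F ≤ F' ∧ (r : Ω) ∈ F' ∧ Unr A W F' ∧
          ∃ g : (W.comap F.val.toRingHom)[X], g.Monic ∧ g.map (residue _) = f ∧
            (g.map (W.comap F.val.toRingHom).subtype).Separable ∧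
            g.eval₂ (F.val.toRingHom.comp (W.comap F.val.toRingHom).subtype) (r : Ω) = 0 := by
  classical
  obtain ⟨π, hπ⟩ := IsDiscreteValuationRing.exists_irreducible A
  let O := W.comap F.val.toRingHom
  have hDVR : IsDiscreteValuationRing O := (hF.unif hW hres hπ).isDVR
  let ι : O →+* W := EtRam.inclOfComap W F.val.toRingHom
  obtain ⟨g, hgf, hdeg, hg⟩ := lifts_and_natDegree_eq_and_monic (f := residue O) (p := f)
    ((mem_lifts f).2 (map_surjective (residue O) residue_surjective f)) hf
  have hgirr : Irreducible (g.map O.subtype) := by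
    have h1 : Irreducible g := Monic.irreducible_of_irreducible_map (residue O) g hg (hgf.symm ▸ hirr)
    exact (hg.irreducible_iff_irreducible_map_fraction_map (K := F)).1 h1
  have hgsep : (g.map O.subtype).Separable := by
    rw [separable_iff_derivative_ne_zero hgirr, derivative_map]
    intro h0
    have h1 : derivative g = 0 := Polynomial.map_injective O.subtype Subtype.val_injective (by rw [h0, Polynomial.map_zero])
    have h2 : derivative f = 0 := by rw [← hgf, derivative_map, h1, Polynomial.map_zero]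
    exact (separable_iff_derivative_ne_zero hirr).1 hsep h2
  let G : Polynomial Ω := g.map (F.val.toRingHom.comp O.subtype)
  have hG : G.Splits := by
    have := IsSepClosed.splits_codomain (f := F.val.toRingHom) _ hgsep
    rwa [Polynomial.map_map] at this
  have hGm : G.Monic := hg.map _
  have hint : ∀ r ∈ G.roots, r ∈ W := fun r hr => by
    have : IsIntegral W r := by
      refine ⟨g.map ι, hg.map _, ?_⟩
      rw [eval₂_map]
      have := (mem_roots hGm.ne_zero).1 hr
      rw [IsRoot, eval_map] at this
      exact this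
    obtain ⟨w, hw⟩ := IsIntegrallyClosed.isIntegral_iff.1 this
    exact hw ▸ w.2
  let R : Multiset W := G.roots.attach.map fun r => ⟨r.1, hint r.1 r.2⟩
  have hprod : g.map ι = (R.map (X - C ·)).prod := by
    refine Polynomial.map_injective W.subtype Subtype.val_injective ?_
    rw [Polynomial.map_multiset_prod, Polynomial.map_map]
    show G = _
    conv_lhs => rw [hG.eq_prod_roots_of_monic hGm, ← Multiset.attach_map_val G.roots]
    simp only [R, Multiset.map_map]
    congr 1
    exact Multiset.map_congr rfl fun r _ => by simp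
  have hfact : f.map (ResidueField.map ι) = ((R.map (residue W)).map (X - C ·)).prod := by
    rw [← hgf, Polynomial.map_map, show (ResidueField.map ι).comp (residue O) = (residue W).comp ι from RingHom.ext fun a => rfl,
      ← Polynomial.map_map, hprod, Polynomial.map_multiset_prod]
    simp only [Multiset.map_map]
    congr 1
    exact Multiset.map_congr rfl fun r _ => by simp
  refine ⟨?_, fun rb hrb => ?_⟩
  · have hne : R.map (residue W) ≠ 0 := by
      intro h0
      rw [h0, Multiset.map_zero, Multiset.prod_zero] at hfact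
      have := congrArg natDegree hfact
      rw [natDegree_map, natDegree_one] at this
      exact (hirr.natDegree_pos).ne' this
    obtain ⟨rb, hrb⟩ := Multiset.exists_mem_of_ne_zero hne
    refine ⟨rb, ?_⟩
    rw [← eval_map, hfact, eval_multiset_prod]
    refine Multiset.prod_eq_zero (Multiset.mem_map.2 ⟨X - C rb, Multiset.mem_map.2 ⟨rb, hrb, rfl⟩, by simp⟩)
  · rw [← eval_map, hfact, eval_multiset_prod, Multiset.prod_eq_zero_iff] at hrb
    obtain ⟨q, hq, hq0⟩ := Multiset.mem_map.1 hrb
    obtain ⟨s, hs, rfl⟩ := Multiset.mem_map.1 hq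
    rw [eval_sub, eval_X, eval_C, sub_eq_zero] at hq0
    obtain ⟨r, hr, rfl⟩ := Multiset.mem_map.1 hs
    obtain ⟨r', -, hr'⟩ := Multiset.mem_map.1 hr
    have hroot : g.eval₂ (F.val.toRingHom.comp O.subtype) (r : Ω) = 0 := by
      rw [← eval_map, ← hr']
      exact (mem_roots hGm.ne_zero).1 r'.2
    obtain ⟨F', h1, h2, h3⟩ := hF.simpleRoot hW hres g hg (hgf.symm ▸ hsep) hgsep hroot
    exact ⟨r, F', hq0.symm, h1, h2, h3, g, hg, hgf, hgsep, hroot⟩

/-- A maximal unramified subfield has separably closed residue field, as soon as the roots may be chosen in the bound. -/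
theorem Unr.isSepClosed {S F : IntermediateField K Ω} (hFS : F ≤ S) (hF : Unr A W F)
    (hmax : ∀ F' : IntermediateField K Ω, F ≤ F' → F' ≤ S → Unr A W F' → F' = F)
    (hS : ∀ f : (ResidueField (W.comap F.val.toRingHom))[X], f.Monic → Irreducible f → f.Separable →
      ∃ rb, f.eval₂ (ResidueField.map (EtRam.inclOfComap W F.val.toRingHom)) rb = 0 ∧
        ∀ (r : W) (F' : IntermediateField K Ω), residue W r = rb → F ≤ F' → (r : Ω) ∈ F' → Unr A W F' →
          (∃ g : (W.comap F.val.toRingHom)[X], g.Monic ∧ g.map (residue _) = f ∧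
            (g.map (W.comap F.val.toRingHom).subtype).Separable ∧
            g.eval₂ (F.val.toRingHom.comp (W.comap F.val.toRingHom).subtype) (r : Ω) = 0) →
          IntermediateField.adjoin K ((F : Set Ω) ∪ {(r : Ω)}) ≤ S) :
    IsSepClosed (ResidueField (W.comap F.val.toRingHom)) := by
  refine IsSepClosed.of_exists_root _ fun f hf hirr hsep => ?_
  obtain ⟨rb, hrb, hrS⟩ := hS f hf hirr hsep
  obtain ⟨r, F', hr, h1, h2, h3, hg⟩ := (hF.exists_lift hW hres hf hirr hsep).2 rb hrb
  let G := IntermediateField.adjoin K ((F : Set Ω) ∪ {(r : Ω)})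
  have hGF' : G ≤ F' := IntermediateField.adjoin_le_iff.2 (Set.union_subset h1 (Set.singleton_subset_iff.2 h2))
  have hG : Unr A W G :=
    ⟨fun z hz => h3.sep z (hGF' hz), fun π hπ z hz hz0 => h3.val π hπ z (hGF' hz) hz0, fun w hw => h3.res w (hGF' hw)⟩
  have hrF : (r : Ω) ∈ F := by
    have := hmax G (fun z hz => IntermediateField.subset_adjoin K _ (Or.inl hz)) (hrS r F' hr h1 h2 h3 hg) hG
    rw [← this]
    exact IntermediateField.subset_adjoin K _ (Or.inr rfl)
  let o : W.comap F.val.toRingHom := ⟨⟨r, hrF⟩, r.2⟩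
  refine ⟨residue _ o, (ResidueField.map (EtRam.inclOfComap W F.val.toRingHom)).injective ?_⟩
  rw [map_zero, ← eval₂_at_apply, ResidueField.map_residue]
  exact (congrArg (fun t => f.eval₂ _ t) hr).trans hrb

end SHDescLib
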