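import Groth.Agent.SolSepLib.Val
import Mathlib.FieldTheory.SeparableClosure
import Mathlib.FieldTheory.IsSepClosed
import Mathlib.RingTheory.Polynomial.GaussLemma

/-! Maximal unramified subfields at a valuation of a separably closed field. -/

set_option autoImplicit false
universe u

noncomputable section

namespace SHDescLib

open IsLocalRing Polynomial

variable (A : Type u) {K Ω : Type u} [CommRing A] [IsDomain A] [IsDiscreteValuationRing A]
  [Field K] [Algebra A K] [IsFractionRing A K] [Field Ω] [Algebra K Ω]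
  (W : ValuationSubring Ω) [Algebra (ResidueField A) (ResidueField W)]

/-- Elements are separable, values are those of the base and residues are separable. -/
structure Unr (F : IntermediateField K Ω) : Prop where
  sep : ∀ z ∈ F, IsSeparable K z
  val : ∀ π : A, Irreducible π → ∀ z ∈ F, z ≠ 0 →
    ∃ k : ℤ, W.valuation z = W.valuation (algebraMap K Ω (algebraMap A K π)) ^ k
  res : ∀ w : W, (w : Ω) ∈ F → residue W w ∈ separableClosure (ResidueField A) (ResidueField W)

variable {A W}
variable (hW : EtRam.Dominates A ((algebraMap K Ω).comp (algebraMap A K)) W)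
  (hres : ∀ a : A, algebraMap (ResidueField A) (ResidueField W) (residue A a) =
    residue W ⟨algebraMap K Ω (algebraMap A K a), hW.1 a⟩)

include hW hres

theorem unr_bot : Unr A W (⊥ : IntermediateField K Ω) := by
  refine ⟨fun z hz => ?_, fun π hπ z hz hz0 => ?_, fun w hw => ?_⟩
  · obtain ⟨c, rfl⟩ := IntermediateField.mem_bot.1 hz
    exact isSeparable_algebraMap c
  · obtain ⟨c, rfl⟩ := IntermediateField.mem_bot.1 hz
    exact SolSepLib.exists_zpow W hπ hW (fun h => hz0 (by rw [h, map_zero]))
  · obtain ⟨c, hc⟩ := IntermediateField.mem_bot.1 hw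
    by_cases hw0 : W.valuation (w : Ω) < 1
    · rw [(residue_eq_zero_iff _).2 ((W.valuation_lt_one_iff _).2 hw0)]; exact zero_mem _
    obtain ⟨a, ha⟩ : ∃ a : A, algebraMap A K a = c := by
      rcases ValuationRing.isInteger_or_isInteger A c with h | ⟨a, ha⟩
      · exact h
      by_cases hu : IsUnit a
      · obtain ⟨b, hb⟩ := isUnit_iff_exists_inv.1 hu
        refine ⟨b, ?_⟩
        have h1 := congrArg (algebraMap A K) hb
        rw [map_mul, map_one, ha] at h1
        exact (eq_inv_of_mul_eq_one_right h1).trans (inv_inv c)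
      exfalso
      have h1 : W.valuation (algebraMap K Ω (algebraMap A K a)) < 1 := hW.2 a hu
      rw [ha, map_inv₀, map_inv₀, hc] at h1
      refine not_le.2 h1 ((one_le_inv₀ ?_).2 ((W.valuation_le_one_iff _).2 w.2))
      exact lt_of_lt_of_le zero_lt_one (not_lt.1 hw0)
    have : residue W w = algebraMap (ResidueField A) (ResidueField W) (residue A a) := by
      rw [hres]; exact congrArg _ (Subtype.ext (by rw [← hc, ← ha]))
    rw [this]; exact IntermediateField.algebraMap_mem _ _

theorem Unr.unif {F : IntermediateField K Ω} (h : Unr A W F) {π : A} (hπ : Irreducible π) :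
    ASWeakLib.Unif W F.val.toRingHom (⟨algebraMap K Ω (algebraMap A K π), IntermediateField.algebraMap_mem _ _⟩ : F) := by
  refine ⟨fun h0 => ?_, hW.2 π (by rw [hπ.maximalIdeal_eq]; exact Ideal.mem_span_singleton_self π),
    fun z hz => h.val π hπ z z.2 fun h0 => hz (Subtype.ext h0)⟩
  have h1 : algebraMap K Ω (algebraMap A K π) = 0 := congrArg Subtype.val h0
  exact hπ.ne_zero (IsFractionRing.injective A K (by rw [map_zero]; exact ((_root_.map_eq_zero (algebraMap K Ω)).1 h1)))

omit hres in
/-- The integers of an intermediate field. -/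
theorem isLocalHom_incl (F : IntermediateField K Ω) : IsLocalHom (EtRam.inclOfComap W F.val.toRingHom) :=
  EtRam.isLocalHom_inclOfComap W _

/-- Adjoining a simple root keeps a subfield unramified. -/
theorem Unr.simpleRoot {F : IntermediateField K Ω} (hF : Unr A W F) (g : (W.comap F.val.toRingHom)[X]) (hg : g.Monic)
    (hsep : (g.map (residue _)).Separable) (hgsep : (g.map (W.comap F.val.toRingHom).subtype).Separable)
    {r : Ω} (hr : g.eval₂ (F.val.toRingHom.comp (W.comap F.val.toRingHom).subtype) r = 0) :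
    ∃ F' : IntermediateField K Ω, F ≤ F' ∧ r ∈ F' ∧ Unr A W F' := by
  classical
  obtain ⟨π, hπ⟩ := IsDiscreteValuationRing.exists_irreducible A
  let O := W.comap F.val.toRingHom
  have hU := hF.unif hW hres hπ
  set xF : F := ⟨algebraMap K Ω (algebraMap A K π), IntermediateField.algebraMap_mem _ _⟩ with hxF
  have hDVR : IsDiscreteValuationRing O := hU.isDVR
  let ι : O →+* W := EtRam.inclOfComap W F.val.toRingHom
  have hrW : r ∈ W := by
    have : IsIntegral W r := by
      refine ⟨g.map ι, hg.map _, ?_⟩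
      rw [eval₂_map]; exact hr
    obtain ⟨w, hw⟩ := IsIntegrallyClosed.isIntegral_iff.1 this
    exact hw ▸ w.2
  let rW : W := ⟨r, hrW⟩
  let rb := residue W rW
  let _ : Algebra (ResidueField O) (ResidueField W) := (ResidueField.map ι).toAlgebra
  let q := W.valuation (algebraMap K Ω (algebraMap A K π))
  have hq1 : q < 1 := hU.lt
  have hq0 : 0 < q := hU.val_pos
  -- evaluation at the root and its residue
  let ev : O[X] →+* W := eval₂RingHom ι rW
  have hev : ∀ P : O[X], residue W (ev P) = aeval rb (P.map (residue O)) := fun P => by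
    rw [aeval_def, eval₂_map]
    show residue W (eval₂ ι rW P) = _
    rw [hom_eval₂]
    rfl
  have hevg : ev g = 0 := Subtype.ext (by
    show (W.subtype (eval₂ ι rW g) : Ω) = 0
    rw [hom_eval₂]; exact hr)
  have hint : IsIntegral (ResidueField O) rb := ⟨g.map (residue O), hg.map _, by
    rw [← aeval_def, ← hev, hevg, map_zero]⟩
  let h := minpoly (ResidueField O) rb
  obtain ⟨k, hk⟩ : h ∣ g.map (residue O) := minpoly.dvd _ _ (by rw [← hev, hevg, map_zero])
  obtain ⟨u, w, huw⟩ : IsCoprime h k := Separable.isCoprime (hk ▸ hsep)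
  obtain ⟨E, hE⟩ := map_surjective (residue O) residue_surjective (w * k)
  have hεres : residue W (ev E) = 1 := by
    rw [hev, hE, show w * k = 1 - u * h by linear_combination huw, map_sub, map_one, map_mul, minpoly.aeval, mul_zero, sub_zero]
  have hεv : W.valuation (ev E : Ω) = 1 := (W.valuation_eq_one_iff _).1 <| by
    rw [← residue_ne_zero_iff_isUnit, hεres]; exact one_ne_zero
  let X₀ : O := ⟨xF, (W.valuation_le_one_iff _).1 hU.lt.le⟩
  have hXv : W.valuation ((ι X₀ : W) : Ω) = q := rfl
  have step : ∀ P, W.valuation (ev P : Ω) < 1 → ∃ P', ev P * ev E = ι X₀ * ev P' := by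
    intro P hP
    obtain ⟨t, ht⟩ : h ∣ P.map (residue O) := minpoly.dvd _ _ (by
      rw [← hev, residue_eq_zero_iff]; exact (W.valuation_lt_one_iff _).2 hP)
    obtain ⟨T, hT⟩ := map_surjective (residue O) residue_surjective (t * w)
    have h0 : (P * E - g * T).map (residue O) = 0 := by
      rw [Polynomial.map_sub, Polynomial.map_mul, Polynomial.map_mul, hE, hT, ht, hk]; ring
    have hdvd : ∀ n, X₀ ∣ (P * E - g * T).coeff n := fun n => by
      have h1 : residue O ((P * E - g * T).coeff n) = 0 := by rw [← coeff_map, h0, coeff_zero]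
      set c := (P * E - g * T).coeff n
      have h2 : W.valuation (F.val.toRingHom (c : F)) < 1 := by
        refine (W.valuation_lt_one_iff (ι c)).1 fun hu => ?_
        exact (residue_eq_zero_iff c).1 h1 (isUnit_of_map_unit ι c hu)
      have h3 : W.valuation (F.val.toRingHom ((c : F) / xF)) ≤ 1 := by
        rw [map_div₀, map_div₀]; exact div_le_one_of_le₀ (hU.le_of_lt_one h2) zero_le
      exact ⟨⟨_, (W.valuation_le_one_iff _).1 h3⟩, Subtype.ext (by
        show (c : F) = xF * ((c : F) / xF)
        rw [mul_div_cancel₀ _ hU.ne])⟩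
    obtain ⟨P', hP'⟩ := (C_dvd_iff_dvd_coeff _ _).2 hdvd
    refine ⟨P', ?_⟩
    have h1 := congrArg ev hP'
    rw [map_sub, map_mul, map_mul, map_mul, hevg, zero_mul, sub_zero] at h1
    rw [h1]
    congr 1
    exact eval₂_C _ _
  have iter : ∀ m P, W.valuation (ev P : Ω) ≤ q ^ m → ∃ P', ev P * ev E ^ m = ι X₀ ^ m * ev P' := by
    intro m
    induction m with
    | zero => exact fun P _ => ⟨P, by simp⟩
    | succ m ih =>
      intro P hP
      obtain ⟨P', hP'⟩ := ih P (hP.trans (pow_le_pow_of_le_one zero_le hq1.le (Nat.le_succ m)))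
      have hv := congrArg (fun w : W => W.valuation (w : Ω)) hP'
      simp only [MulMemClass.coe_mul, SubmonoidClass.coe_pow, map_mul, map_pow, hεv, hXv, one_pow, mul_one] at hv
      have hlt : W.valuation (ev P' : Ω) < 1 := by
        by_contra hge
        refine not_lt.2 hP (lt_of_lt_of_le ?_ (le_of_le_of_eq (le_mul_of_one_le_right zero_le (not_lt.1 hge)) hv.symm))
        exact pow_lt_pow_right_of_lt_one₀ hq0 hq1 (Nat.lt_succ_self m)
      obtain ⟨P'', hP''⟩ := step P' hlt
      exact ⟨P'', by rw [pow_succ, pow_succ, ← mul_assoc, hP', mul_assoc, hP'', ← mul_assoc]⟩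
  -- the new field
  have hsr : IsSeparable F r := by
    refine hgsep.of_dvd (minpoly.dvd F r ?_)
    rw [aeval_def, eval₂_map]
    exact hr
  have hrK : IsSeparable K r := by
    have : Algebra.IsSeparable K F := ⟨fun z => by
      have := hF.sep z z.2
      exact (isSeparable_map_iff F.val F.val.toRingHom.injective).1 this⟩
    exact IsSeparable.of_algebra_isSeparable_of_isSeparable K hsr
  let G : IntermediateField F Ω := IntermediateField.adjoin F {r}
  let F' : IntermediateField K Ω := G.restrictScalars K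
  refine ⟨F', fun z hz => IntermediateField.algebraMap_mem G (⟨z, hz⟩ : F), IntermediateField.mem_adjoin_simple_self F r, ?_⟩
  have hsepF' : ∀ z ∈ F', IsSeparable K z := fun z hz => by
    have : F' ≤ separableClosure K Ω := by
      rw [show F' = IntermediateField.adjoin K ((F : Set Ω) ∪ {r}) from IntermediateField.restrictScalars_adjoin K F {r}]
      refine IntermediateField.adjoin_le_iff.2 ?_
      rintro y (hy | hy)
      · exact mem_separableClosure_iff.2 (hF.sep y hy)
      · exact mem_separableClosure_iff.2 (Set.mem_singleton_iff.1 hy ▸ hrK)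
    exact mem_separableClosure_iff.1 (this hz)
  have hclear : ∀ Q : F[X], ∃ (N : ℕ) (P : O[X]), P.map O.subtype = C (xF ^ N) * Q := by
    intro Q
    induction Q using Polynomial.induction_on' with
    | add Q Q' hQ hQ' =>
      obtain ⟨N, P, hP⟩ := hQ
      obtain ⟨N', P', hP'⟩ := hQ'
      refine ⟨N + N', C (X₀ ^ N') * P + C (X₀ ^ N) * P', ?_⟩
      rw [Polynomial.map_add, Polynomial.map_mul, Polynomial.map_mul, hP, hP', map_C, map_C, map_pow O.subtype,
        map_pow O.subtype, show O.subtype X₀ = xF from rfl, pow_add, C_mul]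
      ring
    | monomial n c =>
      obtain ⟨N, hN⟩ : ∃ N : ℕ, W.valuation (F.val.toRingHom (xF ^ N * c)) ≤ 1 := by
        by_cases hc : c = 0
        · exact ⟨0, by simp [hc]⟩
        obtain ⟨m, hm⟩ := hU.gen c hc
        refine ⟨m.natAbs, ?_⟩
        rw [map_mul, map_mul, map_pow, map_pow, hm, ← zpow_natCast, ← zpow_add₀ hU.val_pos.ne']
        exact zpow_le_one₀ hU.val_pos hU.lt.le (by omega)
      exact ⟨N, monomial n ⟨_, (W.valuation_le_one_iff _).1 hN⟩, by rw [map_monomial, C_mul_monomial]; rfl⟩
  have hrep : ∀ z ∈ F', ∃ (N : ℕ) (P : O[X]), algebraMap K Ω (algebraMap A K π) ^ N * z = (ev P : Ω) := by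
    intro z hz
    have hz' : z ∈ Algebra.adjoin F ({r} : Set Ω) := by
      rw [← IntermediateField.adjoin_simple_toSubalgebra_of_isAlgebraic hsr.isIntegral.isAlgebraic]
      exact hz
    rw [Algebra.adjoin_singleton_eq_range_aeval] at hz'
    obtain ⟨Q, rfl⟩ := hz'
    obtain ⟨N, P, hP⟩ := hclear Q
    refine ⟨N, P, ?_⟩
    have h1 := congrArg (aeval r) hP
    rw [map_mul, aeval_C, map_pow] at h1
    show _ * aeval r Q = W.subtype (eval₂ ι rW P)
    rw [show (aeval r : F[X] →ₐ[F] Ω) Q = aeval r Q from rfl]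
    rw [hom_eval₂]
    refine h1.symm.trans ?_
    rw [aeval_def, eval₂_map]
    rfl
  have hval : ∀ P, (ev P : Ω) ≠ 0 → (ev P : Ω) ∈ F' → ∃ n P', ev P * ev E ^ n = ι X₀ ^ n * ev P' ∧
      W.valuation (ev P' : Ω) = 1 ∧ W.valuation (ev P : Ω) = q ^ n := by
    intro P hP hPF
    obtain ⟨N, hN⟩ := SolSepLib.exists_pow_le (g := algebraMap K Ω) W hπ hW rfl (hsepF' _ hPF).isIntegral.isAlgebraic hP
    have hex : ∃ n, ¬ W.valuation (ev P : Ω) ≤ q ^ n := ⟨N + 1, fun hle =>
      not_lt.2 (hN.trans hle) (pow_lt_pow_right_of_lt_one₀ hq0 hq1 (Nat.lt_succ_self _))⟩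
    obtain ⟨n, hn⟩ : ∃ n, Nat.find hex = n + 1 := Nat.exists_eq_succ_of_ne_zero fun h0 => by
      have := Nat.find_spec hex
      rw [h0, pow_zero] at this
      exact this ((W.valuation_le_one_iff _).2 (ev P).2)
    have hle := not_not.1 (Nat.find_min hex (show n < Nat.find hex by omega))
    have hgt := Nat.find_spec hex
    rw [hn] at hgt
    obtain ⟨P', hP'⟩ := iter n P hle
    have hv := congrArg (fun w : W => W.valuation (w : Ω)) hP'
    simp only [MulMemClass.coe_mul, SubmonoidClass.coe_pow, map_mul, map_pow, hεv, hXv, one_pow, mul_one] at hv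
    have h1 : W.valuation (ev P' : Ω) = 1 := by
      refine le_antisymm ((W.valuation_le_one_iff _).2 (ev P').2) (not_lt.1 fun hlt => hgt ?_)
      obtain ⟨P'', hP''⟩ := step P' hlt
      have hv' := congrArg (fun w : W => W.valuation (w : Ω)) hP''
      simp only [MulMemClass.coe_mul, map_mul, hεv, hXv, mul_one] at hv'
      rw [hv, hv', ← mul_assoc, ← pow_succ]
      exact mul_le_of_le_one_right zero_le ((W.valuation_le_one_iff _).2 (ev P'').2)
    exact ⟨n, P', hP', h1, by rw [hv, h1, mul_one]⟩
  have hzP : ∀ z ∈ F', z ≠ 0 → ∃ (N n : ℕ) (P P' : O[X]), algebraMap K Ω (algebraMap A K π) ^ N * z = (ev P : Ω) ∧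
      ev P * ev E ^ n = ι X₀ ^ n * ev P' ∧ q ^ N * W.valuation z = q ^ n := by
    intro z hz hz0
    obtain ⟨N, P, hP⟩ := hrep z hz
    obtain ⟨n, P', h1, -, h3⟩ := hval P (hP ▸ mul_ne_zero (pow_ne_zero _ ((_root_.map_ne_zero _).2
      ((map_ne_zero_iff _ (IsFractionRing.injective A K)).2 hπ.ne_zero))) hz0)
      (hP ▸ mul_mem (pow_mem (IntermediateField.algebraMap_mem _ _) _) hz)
    exact ⟨N, n, P, P', hP, h1, by rw [← h3, ← hP, map_mul, map_pow]⟩
  refine ⟨hsepF', fun π' hπ' z hz hz0 => ?_, fun w' hw => ?_⟩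
  · obtain ⟨v, hv⟩ := IsDiscreteValuationRing.associated_of_irreducible A hπ hπ'
    obtain ⟨N, n, P, P', -, -, h3⟩ := hzP z hz hz0
    refine ⟨(n : ℤ) - N, ?_⟩
    rw [show W.valuation (algebraMap K Ω (algebraMap A K π')) = q by
      rw [← hv, map_mul, map_mul, map_mul,
        show W.valuation (algebraMap K Ω (algebraMap A K (v : A))) = 1 from
          EtRamStepLib.valuation_eq_one_of_isUnit W hW v.isUnit, mul_one]]
    rw [zpow_sub₀ hq0.ne', zpow_natCast, zpow_natCast, eq_div_iff (pow_ne_zero _ hq0.ne'), mul_comm]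
    exact h3
  · by_cases hlt : W.valuation (w' : Ω) < 1
    · rw [(residue_eq_zero_iff _).2 ((W.valuation_lt_one_iff _).2 hlt)]; exact zero_mem _
    have h1 : W.valuation (w' : Ω) = 1 := le_antisymm ((W.valuation_le_one_iff _).2 w'.2) (not_lt.1 hlt)
    obtain ⟨N, n, P, P', hP, hP', h3⟩ := hzP w' hw (fun h0 => by simp [h0] at h1)
    rw [h1, mul_one] at h3
    have hn : N = n := (pow_right_strictAnti₀ hq0 hq1).injective h3
    subst hn
    have heq : w' * ev E ^ N = ev P' := by
      refine Subtype.ext (mul_left_cancel₀ (pow_ne_zero N ((_root_.map_ne_zero (algebraMap K Ω)).2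
        ((map_ne_zero_iff _ (IsFractionRing.injective A K)).2 hπ.ne_zero))) ?_)
      have := congrArg (fun w : W => (w : Ω)) hP'
      simp only [MulMemClass.coe_mul, SubmonoidClass.coe_pow, ← hP] at this ⊢
      rw [← mul_assoc]; exact this
    have hres' : residue W w' = aeval rb (P'.map (residue O)) := by
      rw [← hev, ← heq, map_mul, map_pow, hεres, one_pow, mul_one]
    -- separability of the residues
    let S := separableClosure (ResidueField A) (ResidueField W)
    have hO : ∀ c : ResidueField O, algebraMap (ResidueField O) (ResidueField W) c ∈ S := fun c => by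
      obtain ⟨o, rfl⟩ := residue_surjective c
      rw [RingHom.algebraMap_toAlgebra, ResidueField.map_residue]
      exact hF.res _ (o : F).2
    let φ : ResidueField O →+* S := (algebraMap (ResidueField O) (ResidueField W)).codRestrict S hO
    have hrbS : rb ∈ S := by
      have h2 : IsSeparable S rb := by
        refine (hsep.map (f := φ)).of_dvd (minpoly.dvd S rb ?_)
        rw [aeval_def, eval₂_map]
        show eval₂ (algebraMap (ResidueField O) (ResidueField W)) rb _ = 0
        rw [← aeval_def, ← hev, hevg, map_zero]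
      exact mem_separableClosure_iff.2 (IsSeparable.of_algebra_isSeparable_of_isSeparable _ h2)
    rw [hres', aeval_eq_sum_range]
    refine sum_mem fun i _ => ?_
    rw [Algebra.smul_def]
    exact mul_mem (hO _) (pow_mem hrbS _)

end SHDescLib
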